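import Groth.Agent.VersalLib.Artin
import Mathlib.AlgebraicGeometry.Stalk
import Mathlib.AlgebraicGeometry.ResidueField
import Mathlib.AlgebraicGeometry.AffineScheme

/-!
# Points of schemes with values in local rings
-/

set_option autoImplicit false
set_option backward.isDefEq.respectTransparency false

universe u

open CategoryTheory AlgebraicGeometry IsLocalRing

namespace Groth.Agent.VersalLib

variable {B : Type u} [CommRing B] [IsLocalRing B] {X : Scheme.{u}}

/-- The residue classes of the local ring at the image point of a `B`-valued point. -/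
noncomputable def resRange (f : Spec (CommRingCat.of B) ⟶ X) : Set (ResidueField B) :=
  Set.range fun w => residue B ((Scheme.stalkClosedPointTo f).hom w)

theorem resRange_fromSpecStalk (x : X) (ψ : X.presheaf.stalk x ⟶ CommRingCat.of B) [IsLocalHom ψ.hom] :
    resRange (Spec.map ψ ≫ X.fromSpecStalk x) = Set.range fun w => residue B (ψ.hom w) := by
  have h := (SpecToEquivOfLocalRing X (CommRingCat.of B)).apply_symm_apply ⟨x, ψ, ‹_›⟩
  obtain ⟨h₁, h₂⟩ := SpecToEquivOfLocalRing_eq_iff.mp h
  have h₂' : Scheme.stalkClosedPointTo (Spec.map ψ ≫ X.fromSpecStalk x) =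
      (X.presheaf.stalkCongr (Inseparable.of_eq h₁)).hom ≫ ψ := h₂
  unfold resRange
  rw [h₂']
  exact Function.Surjective.range_comp (ConcreteCategory.bijective_of_isIso _).2 (fun w => residue B (ψ.hom w))

theorem resRange_surjective_iff (f : Spec (CommRingCat.of B) ⟶ X) :
    Function.Surjective (f.residueFieldMap (closedPoint B)).hom ↔ resRange f = Set.univ := by
  let i : (Spec (CommRingCat.of B)).presheaf.stalk (closedPoint B) ≅ CommRingCat.of B := stalkClosedPointIso _
  haveI : IsLocalHom i.hom.hom := isLocalHom_of_iso i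
  haveI : IsLocalHom i.inv.hom := isLocalHom_of_iso i.symm
  let ψ := fun w => residue B ((Scheme.stalkClosedPointTo f).hom w)
  have key : ∀ (z : (Spec (CommRingCat.of B)).presheaf.stalk (closedPoint B)) w,
      (Spec (CommRingCat.of B)).residue _ z = f.residueFieldMap _ (X.residue _ w) ↔ residue B (i.hom z) = ψ w := by
    intro z w
    rw [← ConcreteCategory.comp_apply, Scheme.residue_residueFieldMap, ConcreteCategory.comp_apply]
    show residue _ z = residue _ _ ↔ residue B (i.hom.hom z) = residue B (i.hom.hom _)
    rw [← sub_eq_zero, ← map_sub, residue_eq_zero_iff, ← sub_eq_zero (a := residue B _), ← map_sub, residue_eq_zero_iff,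
      ← map_sub i.hom.hom, IsLocalRing.mem_maximalIdeal, IsLocalRing.mem_maximalIdeal, mem_nonunits_iff, mem_nonunits_iff]
    exact not_congr (isUnit_map_iff i.hom.hom _).symm
  rw [resRange, Set.eq_univ_iff_forall]
  constructor
  · intro h y
    obtain ⟨b, rfl⟩ := residue_surjective y
    obtain ⟨w, hw⟩ := h ((Spec (CommRingCat.of B)).residue _ (i.inv b))
    obtain ⟨w, rfl⟩ := X.residue_surjective _ w
    refine ⟨w, ?_⟩
    have := (key _ w).mp hw.symm
    rw [← ConcreteCategory.comp_apply, i.inv_hom_id] at this
    exact this.symm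
  · intro h y
    obtain ⟨z, rfl⟩ := (Spec (CommRingCat.of B)).residue_surjective _ y
    obtain ⟨w, hw⟩ := h (residue B (i.hom z))
    exact ⟨X.residue _ w, ((key z w).mpr hw.symm).symm⟩

theorem spec_comp_eq {B' : Type u} [CommRing B'] [IsLocalRing B'] (π : B' →+* B) [IsLocalHom π]
    (f : Spec (CommRingCat.of B') ⟶ X) :
    Spec.map (CommRingCat.ofHom π) ≫ f =
      Spec.map (Scheme.stalkClosedPointTo f ≫ CommRingCat.ofHom π) ≫ X.fromSpecStalk _ := by
  rw [Spec.map_comp, Category.assoc, Scheme.Spec_stalkClosedPointTo_fromSpecStalk]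

theorem resRange_spec_comp {B' : Type u} [CommRing B'] [IsLocalRing B'] (π : B' →+* B) [IsLocalHom π]
    (f : Spec (CommRingCat.of B') ⟶ X) :
    resRange (Spec.map (CommRingCat.ofHom π) ≫ f) =
      Set.range fun w => residue B (π ((Scheme.stalkClosedPointTo f).hom w)) := by
  haveI : IsLocalHom (Scheme.stalkClosedPointTo f ≫ CommRingCat.ofHom π).hom := by
    haveI : IsLocalHom (Scheme.stalkClosedPointTo f).hom := Scheme.isLocalHom_stalkClosedPointTo' f
    rw [CommRingCat.hom_comp]
    exact RingHom.isLocalHom_comp π (Scheme.stalkClosedPointTo f).hom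
  rw [spec_comp_eq, resRange_fromSpecStalk]
  rfl

theorem resRange_comp_subset {Y : Scheme.{u}} (f : Spec (CommRingCat.of B) ⟶ X) (g : X ⟶ Y) :
    resRange (f ≫ g) ⊆ resRange f := by
  rintro _ ⟨w, rfl⟩
  refine ⟨g.stalkMap _ w, ?_⟩
  show residue B _ = residue B _
  rw [Scheme.stalkClosedPointTo_comp]
  rfl

/-- A point with values in a local ring factors through an affine open around the image of the closed point. -/
theorem eq_spec_fromSpec (f : Spec (CommRingCat.of B) ⟶ X) {V : X.Opens} (hV : IsAffineOpen V) (h : f (closedPoint B) ∈ V) :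
    Spec.map (X.presheaf.germ V _ h ≫ Scheme.stalkClosedPointTo f) ≫ hV.fromSpec = f := by
  conv_rhs => rw [← Scheme.Spec_stalkClosedPointTo_fromSpecStalk f, ← hV.fromSpecStalk_eq_fromSpecStalk h]
  rw [Spec.map_comp, Category.assoc]
  rfl

theorem finite_residueLift (f : Spec (CommRingCat.of B) ⟶ X)
    (ρ : X.residueField (f (closedPoint B)) →+* ResidueField B)
    (hρ : ∀ w, ρ (X.residue _ w) = residue B ((Scheme.stalkClosedPointTo f).hom w))
    (h : (f.residueFieldMap (closedPoint B)).hom.Finite) : ρ.Finite := by
  let i : (Spec (CommRingCat.of B)).presheaf.stalk (closedPoint B) ≅ CommRingCat.of B := stalkClosedPointIso _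
  haveI : IsLocalHom i.hom.hom := isLocalHom_of_iso i
  haveI : IsLocalHom ((residue B).comp i.hom.hom) := RingHom.isLocalHom_comp _ _
  let θ : (Spec (CommRingCat.of B)).residueField (closedPoint B) →+* ResidueField B :=
    IsLocalRing.ResidueField.lift ((residue B).comp i.hom.hom)
  have hθ : Function.Surjective θ := fun y => by
    obtain ⟨b, rfl⟩ := residue_surjective y
    refine ⟨(Spec (CommRingCat.of B)).residue _ (i.inv b), ?_⟩
    refine (IsLocalRing.ResidueField.lift_residue_apply _ _).trans ?_
    show residue B (i.hom (i.inv b)) = _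
    rw [← ConcreteCategory.comp_apply, i.inv_hom_id]; rfl
  have he : ρ = θ.comp (f.residueFieldMap (closedPoint B)).hom := by
    refine RingHom.ext fun k => ?_
    obtain ⟨w, rfl⟩ := X.residue_surjective _ k
    rw [hρ]
    show _ = θ (f.residueFieldMap _ (X.residue _ w))
    rw [← ConcreteCategory.comp_apply, Scheme.residue_residueFieldMap]
    exact (IsLocalRing.ResidueField.lift_residue_apply _ _).symm
  rw [he]
  exact (RingHom.Finite.of_surjective θ hθ).comp h

end Groth.Agent.VersalLib
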