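import Mathlib.RingTheory.LocalRing.Length
import Mathlib.RingTheory.Artinian.Ring
import Mathlib.RingTheory.LocalRing.ResidueField.Basic
import Mathlib.RingTheory.FiniteType
import Mathlib.RingTheory.HopkinsLevitzki

/-!
# Subrings of Artinian local rings cut out by a residue subfield
-/

set_option autoImplicit false

open IsLocalRing

universe u

namespace Groth.Agent.VersalLib

variable {B : Type u} [CommRing B] [IsLocalRing B] {κ : Type u} [Field κ] (ρ : κ →+* ResidueField B)

/-- The elements with residue in the image of `κ`. -/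
def sub : Subring B := Subring.comap (residue B) ρ.range

theorem mem_sub {b : B} : b ∈ sub ρ ↔ residue B b ∈ Set.range ρ := Iff.rfl

theorem isUnit_sub {s : sub ρ} (h : IsUnit (s : B)) : IsUnit s := by
  obtain ⟨c, hc⟩ := h.exists_right_inv
  obtain ⟨a, ha⟩ := (mem_sub ρ).mp s.2
  have hm : residue B s.1 * residue B c = 1 := by rw [← map_mul, hc, map_one]
  have hcm : c ∈ sub ρ := (mem_sub ρ).mpr ⟨a⁻¹, by
    rw [map_inv₀, ha]
    exact inv_eq_of_mul_eq_one_right hm⟩
  exact IsUnit.of_mul_eq_one (a := s) ⟨c, hcm⟩ (Subtype.ext hc)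

instance : IsLocalRing (sub ρ) :=
  IsLocalRing.of_nonunits_add (fun {a b} ha hb h =>
    (IsLocalRing.maximalIdeal B).ne_top_iff_one.mp (IsLocalRing.maximalIdeal.isMaximal B).ne_top (by
      have ha' : (a : B) ∈ maximalIdeal B := fun hu => ha (isUnit_sub ρ hu)
      have hb' : (b : B) ∈ maximalIdeal B := fun hu => hb (isUnit_sub ρ hu)
      exact absurd (h.map (sub ρ).subtype) ((add_mem ha' hb' : (a : B) + (b : B) ∈ maximalIdeal B))))

instance : IsLocalHom (algebraMap (sub ρ) B) := ⟨fun _ h => isUnit_sub ρ h⟩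

instance : IsLocalHom (sub ρ).subtype := ⟨fun _ h => isUnit_sub ρ h⟩

theorem isArtinianRing_sub [IsArtinianRing B] (hρ : ρ.Finite) : IsArtinianRing (sub ρ) := by
  have hfin : Module.Finite (ResidueField (sub ρ)) (ResidueField B) := by
    letI := ρ.toAlgebra
    haveI : Module.Finite κ (ResidueField B) := hρ
    obtain ⟨G, hG⟩ := (Module.Finite.fg_top : (⊤ : Submodule κ (ResidueField B)).FG)
    refine ⟨⟨G, eq_top_iff.mpr fun x hx0 => ?_⟩⟩
    clear hx0
    have hx : x ∈ Submodule.span κ (G : Set (ResidueField B)) := hG ▸ trivial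
    induction hx using Submodule.span_induction with
    | mem x hx => exact Submodule.subset_span hx
    | zero => exact zero_mem _
    | add x y _ _ hx hy => exact add_mem hx hy
    | smul c x _ hx =>
      obtain ⟨b, hb⟩ := residue_surjective (ρ c)
      have hs : b ∈ sub ρ := (mem_sub ρ).mpr ⟨c, hb.symm⟩
      rw [Algebra.smul_def, show algebraMap κ (ResidueField B) c = ρ c from rfl,
        show ρ c = algebraMap (ResidueField (sub ρ)) (ResidueField B) (residue (sub ρ) ⟨b, hs⟩) from hb.symm, ← Algebra.smul_def]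
      exact Submodule.smul_mem _ _ hx
  have hlen : Module.length (sub ρ) B ≠ ⊤ := by
    rw [IsLocalRing.length_restrictScalars (sub ρ) B B]
    refine WithTop.mul_ne_top (Module.length_ne_top_iff.mpr ?_) (Module.length_ne_top_iff.mpr ?_)
    · exact isFiniteLength_iff_isNoetherian_isArtinian.mpr ⟨inferInstance, inferInstance⟩
    · exact isFiniteLength_iff_isNoetherian_isArtinian.mpr ⟨inferInstance, inferInstance⟩
  haveI := (isFiniteLength_iff_isNoetherian_isArtinian.mp (Module.length_ne_top_iff.mp hlen)).2
  exact isArtinian_of_injective (R := sub ρ) (Algebra.linearMap (sub ρ) B) Subtype.coe_injective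

end Groth.Agent.VersalLib
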